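import Cfsg.Agent.BoundedInvolution.Main
import Cfsg.Agent.BlocksLocal.PrincipalSection
import Cfsg.Agent.BlocksCharsC.RegularSupport
import Cfsg.Agent.Blocks.Height
import Cfsg.Agent.Blocks.InducedDefect
import Cfsg.Agent.Characters.Linear
import Cfsg.Agent.S4718

/-!
# Groups whose non-principal 2-blocks have small defect

`exists_bound_defect`: the order is bounded by the 2-part when an elementary abelian 2-subgroup
has rank above all non-principal defects.
-/

set_option autoImplicit false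
set_option linter.style.haveILetI false
set_option linter.unusedSectionVars false

namespace CfsgLib.DefectBound

open Cfsg CfsgLib.Blocks

universe u

/-- An element of order prime to `p` lifts to one of order prime to `p`. -/
theorem exists_regular_lift {p : ℕ} [Fact p.Prime] {G : Type u} [Group G] [Finite G]
    (Z : Subgroup G) [Z.Normal] {q : G ⧸ Z} (hq : ¬ p ∣ orderOf q) :
    ∃ s : G, QuotientGroup.mk' Z s = q ∧ ¬ p ∣ orderOf s := by
  have hp : p.Prime := Fact.out
  obtain ⟨g, rfl⟩ := QuotientGroup.mk'_surjective Z q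
  obtain ⟨z, s, hzs, hcomm, ⟨k, hk⟩, hs⟩ := Blocks.exists_isPPart hp g
  refine ⟨s, ?_, hs⟩
  have h1 : Cfsg.IsPPart p (QuotientGroup.mk' Z g) (1 : G ⧸ Z) :=
    ⟨QuotientGroup.mk' Z g, one_mul _, Commute.one_left _, ⟨0, by simp⟩, hq⟩
  have h2 : Cfsg.IsPPart p (QuotientGroup.mk' Z g) (QuotientGroup.mk' Z z) := by
    refine ⟨QuotientGroup.mk' Z s, by rw [← map_mul, hzs], hcomm.map _, ?_,
      fun h => hs (h.trans (orderOf_map_dvd _ s))⟩
    obtain ⟨j, -, hj⟩ := (Nat.dvd_prime_pow hp).1 (hk ▸ orderOf_map_dvd (QuotientGroup.mk' Z) z)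
    exact ⟨j, hj⟩
  rw [← hzs, map_mul, Blocks.isPPart_unique hp h2 h1, one_mul]

/-- Modulo a central p-subgroup centralizers of p-regular elements have the same index. -/
theorem index_centralizer_mk {p : ℕ} [Fact p.Prime] {G : Type u} [Group G] [Finite G]
    (Z : Subgroup G) [Z.Normal] (hZ : IsPGroup p Z) (hZc : Z ≤ Subgroup.center G) {s : G}
    (hs : ¬ p ∣ orderOf s) :
    (Subgroup.centralizer ({QuotientGroup.mk' Z s} : Set (G ⧸ Z))).index =
      (Subgroup.centralizer ({s} : Set G)).index := by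
  have hp : p.Prime := Fact.out
  rw [← Subgroup.index_comap_of_surjective _ (QuotientGroup.mk'_surjective Z)]
  congr 1
  ext t
  rw [Subgroup.mem_comap, Subgroup.mem_centralizer_singleton_iff,
    Subgroup.mem_centralizer_singleton_iff]
  refine ⟨fun h => ?_, fun h => by rw [← map_mul, ← map_mul, h]⟩
  set z := t * s * t⁻¹ * s⁻¹ with hz
  have hzZ : z ∈ Z := by
    rw [← QuotientGroup.eq_one_iff, ← QuotientGroup.mk'_apply, hz, map_mul, map_mul, map_mul,
      map_inv, map_inv, mul_inv_eq_one, mul_inv_eq_iff_eq_mul]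
    exact h
  obtain ⟨k, hk⟩ := IsPGroup.iff_orderOf.1 hZ ⟨z, hzZ⟩
  rw [Subgroup.orderOf_mk] at hk
  have hconj : z * s = t * s * t⁻¹ := by rw [hz]; group
  have hcz : Commute z s := ((Subgroup.mem_center_iff.1 (hZc hzZ)) s).symm
  have ho : orderOf (z * s) = orderOf s := by
    rw [hconj, show t * s * t⁻¹ = MulAut.conj t s from rfl, MulEquiv.orderOf_eq]
  rw [hcz.orderOf_mul_eq_mul_orderOf_of_coprime
    (by rw [hk]; exact (hp.coprime_iff_not_dvd.2 hs).pow_left k),
    mul_eq_right₀ (orderOf_pos s).ne', orderOf_eq_one_iff] at ho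
  rw [ho, one_mul] at hconj
  exact mul_inv_eq_iff_eq_mul.1 hconj.symm

/-- The step: centralizers of involutions modulo the involution. -/
theorem defect_quotient_lt {p : ℕ} [Fact p.Prime] {G : Type u} [Group G] [Fintype G]
    {M : Ideal AlgInt} (hM : Cfsg.IsPModular p M) {r : ℕ}
    (hdef : ∀ B : Set (IrrCharacter G), Cfsg.IsPBlock M B → B ≠ Cfsg.principalBlock M G →
      Cfsg.blockDefect p B < r + 1) {x : G} (hx : orderOf x = p) :
    ∀ (Z : Subgroup (Subgroup.centralizer ({x} : Set G))) [Z.Normal],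
      Nat.card Z = p → Z ≤ Subgroup.center (Subgroup.centralizer ({x} : Set G)) →
      ∀ B : Set (IrrCharacter ((Subgroup.centralizer ({x} : Set G)) ⧸ Z)), Cfsg.IsPBlock M B →
        B ≠ Cfsg.principalBlock M _ → Cfsg.blockDefect p B < r := by
  classical
  intro Z _ hZcard hZc B hB hBne
  haveI := Blocks.IsPModular.isPrime hM
  have hp : p.Prime := Fact.out
  letI : Fintype (Subgroup.centralizer ({x} : Set G)) := Fintype.ofFinite _
  letI : Fintype ((Subgroup.centralizer ({x} : Set G)) ⧸ Z) := Fintype.ofFinite _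
  have hZp : IsPGroup p Z := IsPGroup.of_card (n := 1) (by rw [hZcard, pow_one])
  obtain ⟨D, hD⟩ := exists_isDefectGroup (p := p) hB
  obtain ⟨ψ, hψ, he⟩ := exists_degree_eq hM hB hD
  rw [← blockDefect_eq hM hB hD] at he
  let χ : IrrCharacter (Subgroup.centralizer ({x} : Set G)) :=
    ⟨fun h => (ψ : (Subgroup.centralizer ({x} : Set G)) ⧸ Z → ℂ) (QuotientGroup.mk' Z h),
      Characters.isIrr_comp _ (QuotientGroup.mk'_surjective Z) ψ.2⟩
  have hχ1 : (χ : Subgroup.centralizer ({x} : Set G) → ℂ) 1 = (ψ : (Subgroup.centralizer ({x} : Set G)) ⧸ Z → ℂ) 1 := by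
    show (ψ : (Subgroup.centralizer ({x} : Set G)) ⧸ Z → ℂ) (QuotientGroup.mk' Z 1) = _
    rw [map_one]
  have hnp : χ ∉ Cfsg.principalBlock M _ := by
    intro hχ
    rw [BlocksCharsC.mem_principalBlock_iff] at hχ
    have hψ0 : ψ ∈ Cfsg.principalBlock M _ := by
      refine BlocksCharsC.mem_principalBlock_of_regular hM fun q hq => ?_
      obtain ⟨s, rfl, hs⟩ := exists_regular_lift Z hq
      convert hχ s using 1
      rw [Cfsg.centralChar, Cfsg.centralChar, index_centralizer_mk Z hZp hZc hs, hχ1]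
    exact hBne (isPBlock_eq_of_mem hB PrincipalBlock.isPBlock_principalBlock hψ hψ0)
  obtain ⟨BG, hBG⟩ := induced_setup hM ⟨1, by rw [hx, pow_one]⟩ χ
  have hBGne : BG ≠ Cfsg.principalBlock M G := by
    rintro rfl
    exact hnp ((BlocksLocal.isInducedBlock_principal_iff hM ⟨_, hBG⟩).1 hBG ▸ mem_blockOf_self χ)
  obtain ⟨Db, hDb⟩ := exists_isDefectGroup (p := p) hBG.1
  obtain ⟨E, hE, hle⟩ := IsDefectGroup.exists_le_of_induced hM hBG hDb
  have hd : Cfsg.blockDefect p (Cfsg.blockOf M (χ : Subgroup.centralizer ({x} : Set G) → ℂ)) ≤ r := by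
    rw [blockDefect_eq hM hBG.1 hDb]
    refine le_trans ?_ (Nat.lt_succ_iff.1 (hdef BG hBG.2.1 hBGne))
    rw [blockDefect_eq hM hBG.2.1 hE]
    refine (Nat.factorization_le_iff_dvd Nat.card_pos.ne' Nat.card_pos.ne').2 ?_ p
    rw [← Subgroup.card_map_of_injective (Subgroup.subtype_injective _) (K := Db)]
    exact Subgroup.card_dvd_of_le hle
  have h1 := defect_add_degree_ge hM hBG.1 hDb (mem_blockOf_self χ)
  rw [← blockDefect_eq hM hBG.1 hDb] at h1
  have h2 : (Nat.card (Subgroup.centralizer ({x} : Set G))).factorization p =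
      (Nat.card ((Subgroup.centralizer ({x} : Set G)) ⧸ Z)).factorization p + 1 := by
    rw [Subgroup.card_eq_card_quotient_mul_card_subgroup Z,
      Nat.factorization_mul Nat.card_pos.ne' Nat.card_pos.ne', Finsupp.add_apply, hZcard,
      hp.factorization_self]
  have h3 : Cfsg.charDegree (χ : Subgroup.centralizer ({x} : Set G) → ℂ) =
      Cfsg.charDegree (ψ : (Subgroup.centralizer ({x} : Set G)) ⧸ Z → ℂ) := by
    rw [Cfsg.charDegree, Cfsg.charDegree, hχ1]
  rw [h3] at h1
  omega

/-- The bound. -/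
theorem exists_bound_defect (r : ℕ) : ∀ a : ℕ, ∃ N : ℕ, ∀ (G : Type u) [Group G] [Finite G]
    (M : Ideal AlgInt), Cfsg.IsPModular 2 M → (Nat.card G).factorization 2 ≤ a →
    (∀ B : Set (IrrCharacter G), Cfsg.IsPBlock M B → B ≠ Cfsg.principalBlock M G →
      Cfsg.blockDefect 2 B < r) →
    ∀ E : Subgroup G, IsMulCommutative E → (∀ x ∈ E, x * x = 1) → Nat.card E = 2 ^ (r + 1) →
      Nat.card G ≤ N := by
  haveI : Fact (Nat.Prime 2) := ⟨Nat.prime_two⟩
  induction r with
  | zero =>
    intro a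
    choose F hF using fun b : ℕ => Cfsg.Agent.S4718.result.{u} 2 b
    refine ⟨∑ b ∈ Finset.range (a + 1), F b, fun G _ _ M hM ha hdef E _ _ _ => ?_⟩
    refine le_trans (hF _ G M hM rfl fun B hB => by_contra fun hne => Nat.not_lt_zero _ (hdef B hB hne))
      ?_
    exact Finset.single_le_sum (f := F) (fun _ _ => Nat.zero_le _) (Finset.mem_range.2 (by omega))
  | succ r ih =>
    intro a
    obtain ⟨F, hF⟩ := ih a
    obtain ⟨N, hN⟩ := BoundedInvolution.exists_bound.{u} a (F * 2)
    refine ⟨N, fun G _ _ M hM ha hdef E hEc hE2 hEcard => ?_⟩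
    classical
    haveI := hEc
    letI : Fintype G := Fintype.ofFinite G
    have hbd : ∀ u ∈ E, u ≠ 1 →
        Nat.card ↥((⊤ : Subgroup G) ⊓ Subgroup.centralizer ({u} : Set G)) ≤ F * 2 := by
      intro u hu hu1
      rw [top_inf_eq]
      have huo : orderOf u = 2 := orderOf_eq_prime (by rw [sq]; exact hE2 u hu) hu1
      set H := Subgroup.centralizer ({u} : Set G) with hH
      let uH : H := ⟨u, Subgroup.mem_centralizer_singleton_iff.2 rfl⟩
      set Z := Subgroup.zpowers uH with hZ
      have hZc : Z ≤ Subgroup.center H := by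
        rw [hZ, Subgroup.zpowers_le, Subgroup.mem_center_iff]
        exact fun g => Subtype.ext (Subgroup.mem_centralizer_singleton_iff.1 g.2)
      haveI : Z.Normal := ⟨fun z hz g => by
        rw [Subgroup.mem_center_iff.1 (hZc hz) g, mul_inv_cancel_right]; exact hz⟩
      have hZcard : Nat.card Z = 2 := by rw [hZ, Nat.card_zpowers, Subgroup.orderOf_mk, huo]
      have hEH : E ≤ H := fun e he =>
        Subgroup.mem_centralizer_singleton_iff.2 (setLike_mul_comm he hu)
      set E' := E.subgroupOf H with hE'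
      have hZE : Z ≤ E' := Subgroup.zpowers_le.2 hu
      have hE'card : Nat.card E' = 2 ^ (r + 1 + 1) := by
        rw [Nat.card_congr (Subgroup.subgroupOfEquivOfLe hEH).toEquiv, hEcard]
      haveI : IsMulCommutative E' := ⟨⟨fun e f => Subtype.ext (Subtype.ext
        (setLike_mul_comm (show ((e : H) : G) ∈ E from e.2) (show ((f : H) : G) ∈ E from f.2)))⟩⟩
      have hq := hF (H ⧸ Z) M hM ?_ ?_ (E'.map (QuotientGroup.mk' Z)) ?_ ?_ ?_
      · rw [Subgroup.card_eq_card_quotient_mul_card_subgroup Z, hZcard]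
        exact Nat.mul_le_mul_right 2 hq
      · refine le_trans ?_ ha
        exact (Nat.factorization_le_iff_dvd Nat.card_pos.ne' Nat.card_pos.ne').2
          ((Subgroup.card_quotient_dvd_card Z).trans (Subgroup.card_subgroup_dvd_card H)) 2
      · exact fun B hB hne => defect_quotient_lt hM hdef huo Z hZcard hZc B hB hne
      · refine ⟨⟨?_⟩⟩
        rintro ⟨_, e, he, rfl⟩ ⟨_, f, hf, rfl⟩
        exact Subtype.ext (by
          show QuotientGroup.mk' Z e * QuotientGroup.mk' Z f = _ * _
          rw [← map_mul, ← map_mul, setLike_mul_comm he hf])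
      · rintro _ ⟨e, he, rfl⟩
        have he2 : e * e = 1 := Subtype.ext (hE2 _ he)
        rw [← map_mul, he2, map_one]
      · have h := BoundedInvolution.card_eq_map_mul E' Z hZE
        rw [hE'card, hZcard, pow_succ] at h
        omega
    obtain ⟨v, hv, hv1⟩ : ∃ v ∈ E, v ≠ 1 := by
      by_contra h
      push Not at h
      rw [show E = ⊥ from (Subgroup.eq_bot_iff_forall E).2 h, Subgroup.card_bot] at hEcard
      exact absurd hEcard.symm (Nat.one_lt_two_pow (by omega)).ne'
    obtain ⟨w, hw, hwv⟩ : ∃ w ∈ E, w ∉ Subgroup.zpowers v := by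
      by_contra h
      push Not at h
      have hle := Nat.le_of_dvd Nat.card_pos (Subgroup.card_dvd_of_le (fun g hg => h g hg :
        E ≤ Subgroup.zpowers v))
      rw [hEcard, Nat.card_zpowers, orderOf_eq_prime (by rw [sq]; exact hE2 v hv) hv1] at hle
      have : 2 ^ 2 ≤ 2 ^ (r + 1 + 1) := Nat.pow_le_pow_right (by norm_num) (by omega)
      omega
    have hvw1 : v * w ≠ 1 := fun h => hwv (by
      rw [eq_inv_of_mul_eq_one_right h]; exact inv_mem (Subgroup.mem_zpowers v))
    have := hN G ⊤ v w (hE2 v hv) (hE2 w hw) (setLike_mul_comm hv hw)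
      (by rwa [Subgroup.card_top]) (hbd v hv hv1)
      (hbd w hw fun h => hwv (h ▸ one_mem _)) (hbd _ (mul_mem hv hw) hvw1)
    rwa [Subgroup.card_top] at this

end CfsgLib.DefectBound
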